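import Groth.Agent.Lib.SkFlat5.Basic
import Groth.Agent.Lib.AdicExtra.Completion
import Groth.Agent.Lib.DepthExt20.Basic
import Mathlib.RingTheory.AdicCompletion.LocalRing
import Mathlib.RingTheory.Ideal.GoingDown

/-! # Depth at a prime through the completion at a minimal prime of the support -/

set_option autoImplicit false
set_option linter.style.haveILetI false
set_option maxHeartbeats 800000

universe u

open TensorProduct IsLocalRing

namespace GrothLib.Bootstrap

variable {R : Type u} [CommRing R] [IsNoetherianRing R] [IsLocalRing R]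
  (M : Type u) [AddCommGroup M] [Module R M] [Module.Finite R M]

/-- Over a prime `P` whose only specialisation in `V(J)` is the closed point there is a prime of the completion of
the same depth whose only specialisations in the closed fibre are maximal. -/
theorem exists_prime_completion (J : Ideal R) (hJ : J ≤ maximalIdeal R) (P : Ideal R) [P.IsPrime]
    (hPJ : ¬ J ≤ P) (hmin : ∀ Q : Ideal R, Q.IsPrime → P ≤ Q → J ≤ Q → Q = maximalIdeal R) :
    ∃ (p' : Ideal (AdicCompletion J R)) (_ : p'.IsPrime),
      (¬ J.map (algebraMap R (AdicCompletion J R)) ≤ p') ∧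
      (∀ q' : Ideal (AdicCompletion J R), q'.IsPrime → p' ≤ q' →
        J.map (algebraMap R (AdicCompletion J R)) ≤ q' → q'.IsMaximal) ∧
      LocCoh.depth (Localization.AtPrime p') (LocalizedModule p'.primeCompl (AdicCompletion J M)) =
        LocCoh.depth (Localization.AtPrime P) (LocalizedModule P.primeCompl M) := by
  let Rh := AdicCompletion J R
  let ι := algebraMap R Rh
  have hmax : ((maximalIdeal R).map ι).IsMaximal :=
    AdicCompletion.isMaximal_map_of_le J (maximalIdeal R) hJ J.fg_of_isNoetherianRing
  haveI := hmax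
  haveI hlies : ((maximalIdeal R).map ι).LiesOver (maximalIdeal R) :=
    ⟨((maximalIdeal.isMaximal R).eq_of_le (Ideal.comap_ne_top _ hmax.ne_top) Ideal.le_comap_map)⟩
  obtain ⟨p₁, -, hp₁, hlie⟩ := ((maximalIdeal R).map ι).exists_ideal_le_liesOver_of_le (p := P) (q := maximalIdeal R)
    (IsLocalRing.le_maximalIdeal (Ideal.IsPrime.ne_top ‹_›))
  haveI := hp₁
  obtain ⟨p', hp'mem, hle⟩ := Ideal.exists_minimalPrimes_le
    (show P.map ι ≤ p₁ from Ideal.map_le_iff_le_comap.2 hlie.over.le)
  haveI := hp'mem.isPrime
  have hover : p'.comap ι = P :=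
    le_antisymm ((Ideal.comap_mono hle).trans hlie.over.ge) (Ideal.map_le_iff_le_comap.1 hp'mem.1.2)
  refine ⟨p', inferInstance, fun h => hPJ (hover ▸ Ideal.map_le_iff_le_comap.1 h), fun q' hq' hpq hJq => ?_, ?_⟩
  · have h1 := hmin (q'.comap ι) inferInstance (hover ▸ Ideal.comap_mono hpq) (Ideal.map_le_iff_le_comap.1 hJq)
    exact hmax.eq_of_le hq'.ne_top (Ideal.map_le_iff_le_comap.2 h1.ge) ▸ hmax
  haveI : IsNoetherianRing Rh := GrothLib.AdicExtra.isNoetherianRing_adicCompletion J
  haveI : Module.Finite Rh (Rh ⊗[R] M) := inferInstance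
  let e := AdicCompletion.ofTensorProductEquivOfFiniteNoetherian J M
  haveI : Module.Finite Rh (AdicCompletion J M) := Module.Finite.equiv e
  haveI : IsNoetherianRing (Localization.AtPrime p') := GrothLib.Depth.isNoetherian_atPrime p'
  let L := IsLocalizedModule.mapEquiv p'.primeCompl (LocalizedModule.mkLinearMap p'.primeCompl (Rh ⊗[R] M))
    (LocalizedModule.mkLinearMap p'.primeCompl (AdicCompletion J M)) (Localization.AtPrime p') e
  haveI : Module.Finite (Localization.AtPrime p') (LocalizedModule p'.primeCompl (Rh ⊗[R] M)) :=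
    Module.Finite.of_isLocalizedModule p'.primeCompl (LocalizedModule.mkLinearMap p'.primeCompl (Rh ⊗[R] M))
  haveI := Module.Finite.equiv L
  refine (GrothLib.Depth.idealDepth_eq_of_equiv _ L).symm.trans ?_
  rcases subsingleton_or_nontrivial (LocalizedModule P.primeCompl M) with hs | hs
  · haveI : Subsingleton (LocalizedModule (p'.comap ι).primeCompl M) := by subst hover; exact hs
    haveI := GrothLib.SkFlat5.subsingleton_tensor_right (A := R) (B := Rh) M Rh p'
    rw [GrothLib.Depth.depth_eq_top_of_subsingleton (LocalizedModule P.primeCompl M)]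
    exact GrothLib.Depth.depth_eq_top_of_subsingleton _
  haveI : Nontrivial (LocalizedModule (p'.comap ι).primeCompl M) := by subst hover; exact hs
  haveI : Nontrivial (LocalizedModule p'.primeCompl Rh) :=
    (IsLocalizedModule.linearEquiv p'.primeCompl (LocalizedModule.mkLinearMap p'.primeCompl Rh)
      (Algebra.linearMap Rh (Localization.AtPrime p'))).toEquiv.nontrivial
  obtain ⟨h1, -, h2⟩ := GrothLib.SkFlat5.dep_sdim_tensor (A := R) (B := Rh) M Rh p'
  have h3 : LocCoh.depth (Localization.AtPrime p') (GrothLib.SkFlat5.Fib R p' Rh) = 0 := by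
    haveI : Nontrivial (GrothLib.SkFlat5.Fib R p' Rh) := by
      by_contra hne
      haveI := not_nontrivial_iff_subsingleton.1 hne
      rw [(Module.supportDim_eq_bot_iff_subsingleton _ _).2 inferInstance] at h2
      exact absurd h2 (by decide)
    rw [GrothLib.CMBasics.depth_eq_zero_iff]
    obtain ⟨Q, hQ⟩ := associatedPrimes.nonempty (Localization.AtPrime p') (GrothLib.SkFlat5.Fib R p' Rh)
    haveI := hQ.isPrime
    suffices h : maximalIdeal (Localization.AtPrime p') ≤ Q by
      rwa [le_antisymm (IsLocalRing.le_maximalIdeal hQ.isPrime.ne_top) h] at hQ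
    have hann : ((p'.comap ι).map (algebraMap R (Localization.AtPrime p'))) ≤ Q := fun a ha =>
      hQ.annihilator_le (Submodule.mem_annihilator.2 fun z _ => by
        obtain ⟨w, rfl⟩ := Submodule.Quotient.mk_surjective _ z
        rw [← Submodule.Quotient.mk_smul, Submodule.Quotient.mk_eq_zero]
        exact Submodule.smul_mem_smul ha Submodule.mem_top)
    have h4 : p' ≤ Q.comap (algebraMap Rh (Localization.AtPrime p')) := by
      refine hp'mem.2 ⟨inferInstance, ?_⟩ ?_
      · rw [← hover, Ideal.map_le_iff_le_comap]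
        intro a ha
        refine hann (?_ : algebraMap Rh (Localization.AtPrime p') (ι a) ∈ _)
        rw [← IsScalarTower.algebraMap_apply]
        exact Ideal.mem_map_of_mem _ ha
      · refine (Ideal.comap_mono (IsLocalRing.le_maximalIdeal hQ.isPrime.ne_top)).trans ?_
        exact (Localization.AtPrime.under_maximalIdeal).le
    calc maximalIdeal (Localization.AtPrime p') = p'.map (algebraMap Rh _) := Localization.AtPrime.map_eq_maximalIdeal.symm
      _ ≤ Q := Ideal.map_le_iff_le_comap.2 h4
  refine h1.trans ?_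
  rw [h3, add_zero]
  subst hover
  rfl

variable {A : Type u} [CommRing A] [IsNoetherianRing A]

/-- **No point of `V(I)` outside `T` in between gives depth.** -/
theorem depth_gt_of_between (I : Ideal A) (M : Type u) [AddCommGroup M] [Module A M] [Module.Finite A M]
    (T : Set (PrimeSpectrum A)) (hTI : T ⊆ PrimeSpectrum.zeroLocus (I : Set A)) (s : ℕ)
    (h6 : ∀ q : PrimeSpectrum A, q ∈ T →
      ∀ p' : PrimeSpectrum (AdicCompletion (I.map (algebraMap A (Localization.AtPrime q.asIdeal))) (Localization.AtPrime q.asIdeal)),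
      ¬ (I.map (algebraMap A (AdicCompletion (I.map (algebraMap A (Localization.AtPrime q.asIdeal))) (Localization.AtPrime q.asIdeal)))) ≤ p'.asIdeal →
      (∀ q' : PrimeSpectrum (AdicCompletion (I.map (algebraMap A (Localization.AtPrime q.asIdeal))) (Localization.AtPrime q.asIdeal)), p' ≤ q' →
        (I.map (algebraMap A (AdicCompletion (I.map (algebraMap A (Localization.AtPrime q.asIdeal))) (Localization.AtPrime q.asIdeal)))) ≤ q'.asIdeal →
        q'.asIdeal.IsMaximal) →
      (s : ℕ∞) < LocCoh.depth (Localization.AtPrime p'.asIdeal) (LocalizedModule p'.asIdeal.primeCompl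
        (AdicCompletion (I.map (algebraMap A (Localization.AtPrime q.asIdeal))) (LocalizedModule q.asIdeal.primeCompl M))))
    (p q : PrimeSpectrum A) (hpq : p ≤ q) (hp : ¬ I ≤ p.asIdeal) (hq : q ∈ T)
    (hr : ∀ r : PrimeSpectrum A, p ≤ r → r ≤ q → I ≤ r.asIdeal → r ∈ T) :
    (s : ℕ∞) < LocCoh.depth (Localization.AtPrime p.asIdeal) (LocalizedModule p.asIdeal.primeCompl M) := by
  have hqI : I ≤ q.asIdeal := hTI hq
  obtain ⟨r, hrmem, hrq⟩ := Ideal.exists_minimalPrimes_le (show p.asIdeal ⊔ I ≤ q.asIdeal from sup_le hpq hqI)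
  haveI := hrmem.isPrime
  have hpr : p.asIdeal ≤ r := le_sup_left.trans hrmem.1.2
  have hIr : I ≤ r := le_sup_right.trans hrmem.1.2
  have hrT : (⟨r, inferInstance⟩ : PrimeSpectrum A) ∈ T := hr _ hpr hrq hIr
  let R := Localization.AtPrime r
  let ι := algebraMap A R
  let J := I.map ι
  let P := p.asIdeal.map ι
  have disj : Disjoint (r.primeCompl : Set A) (p.asIdeal : Set A) :=
    Set.disjoint_left.2 fun a ha hap => ha (hpr hap)
  haveI : P.IsPrime := IsLocalization.isPrime_of_isPrime_disjoint r.primeCompl _ _ p.isPrime disj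
  have hPc : P.comap ι = p.asIdeal := IsLocalization.under_map_of_isPrime_disjoint r.primeCompl _ p.isPrime disj
  haveI : IsNoetherianRing R := GrothLib.Depth.isNoetherian_atPrime r
  have hJ : J ≤ maximalIdeal R := by
    rw [← Localization.AtPrime.map_eq_maximalIdeal]
    exact Ideal.map_mono hIr
  have hPJ : ¬ J ≤ P := fun h => hp (hPc ▸ Ideal.map_le_iff_le_comap.1 h)
  have hmin : ∀ Q : Ideal R, Q.IsPrime → P ≤ Q → J ≤ Q → Q = maximalIdeal R := fun Q hQ hPQ hJQ => by
    refine le_antisymm (IsLocalRing.le_maximalIdeal hQ.ne_top) ?_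
    rw [← Localization.AtPrime.map_eq_maximalIdeal, Ideal.map_le_iff_le_comap]
    refine hrmem.2 ⟨inferInstance, sup_le (Ideal.map_le_iff_le_comap.1 hPQ) (Ideal.map_le_iff_le_comap.1 hJQ)⟩ ?_
    exact (Ideal.comap_mono (IsLocalRing.le_maximalIdeal hQ.ne_top)).trans (Localization.AtPrime.under_maximalIdeal).le
  let N := LocalizedModule r.primeCompl M
  obtain ⟨p', hp', h1, h2, h3⟩ := exists_prime_completion N J hJ P hPJ hmin
  have hmap : I.map (algebraMap A (AdicCompletion J R)) = J.map (algebraMap R (AdicCompletion J R)) := by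
    rw [Ideal.map_map, ← IsScalarTower.algebraMap_eq]
  have h4 := h6 ⟨r, inferInstance⟩ hrT ⟨p', hp'⟩ (by rw [hmap]; exact h1)
    (fun q' hle hI' => h2 q'.asIdeal q'.isPrime hle (hmap ▸ hI'))
  refine lt_of_lt_of_eq h4 (h3.trans ?_)
  haveI : IsLocalization.AtPrime (Localization.AtPrime P) p.asIdeal := by
    convert IsLocalization.isLocalization_isLocalization_atPrime_isLocalization r.primeCompl (Localization.AtPrime P) P
    exact hPc.symm
  let g : M →ₗ[A] LocalizedModule P.primeCompl N :=
    ((LocalizedModule.mkLinearMap P.primeCompl N).restrictScalars A).comp (LocalizedModule.mkLinearMap r.primeCompl M)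
  haveI : IsLocalizedModule p.asIdeal.primeCompl g :=
    (isLocalizedModule_iff_isBaseChange p.asIdeal.primeCompl (Localization.AtPrime P) g).2
      (((isLocalizedModule_iff_isBaseChange r.primeCompl R (LocalizedModule.mkLinearMap r.primeCompl M)).1 inferInstance).comp
        ((isLocalizedModule_iff_isBaseChange P.primeCompl (Localization.AtPrime P) (LocalizedModule.mkLinearMap P.primeCompl N)).1 inferInstance))
  exact (GrothLib.DepthExt20.depth_eq_of_isLocalization p.asIdeal (Localization.AtPrime P) _ g).symm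

end GrothLib.Bootstrap
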